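import Groth.Agent.Lib.EtRam10.Generators
import Groth.Agent.Lib.DVRExt.FiniteExt
import Mathlib.AlgebraicGeometry.EllipticCurve.Reduction
import Mathlib.AlgebraicGeometry.EllipticCurve.IsomOfJ
import Mathlib.FieldTheory.IsAlgClosed.AlgebraicClosure
import Mathlib.FieldTheory.IntermediateField.Adjoin.Basic

/-!
# Integral j-invariant and potentially good reduction
-/

set_option autoImplicit false
set_option linter.all false
set_option backward.isDefEq.respectTransparency false
universe u

open Polynomial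

namespace GrothLib.PotGood20

section Models

variable {B : Type u} [CommRing B]

/-- Legendre model: if `z = l(l-1)` and `256 (z+1)^3 = j z^2`, with `2` and `z` units. -/
theorem legendre (l j : B) (h2 : IsUnit (2 : B)) (hz : IsUnit (l * (l - 1)))
    (h : 256 * (l * (l - 1) + 1) ^ 3 = j * (l * (l - 1)) ^ 2) :
    ∃ E : WeierstrassCurve B, IsUnit E.Δ ∧ E.c₄ ^ 3 = j * E.Δ := by
  refine ⟨⟨0, -(l + 1), 0, l, 0⟩, ?_, ?_⟩
  · have : (⟨0, -(l + 1), 0, l, 0⟩ : WeierstrassCurve B).Δ = 2 ^ 4 * (l * (l - 1)) ^ 2 := by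
      simp only [WeierstrassCurve.Δ, WeierstrassCurve.b₂, WeierstrassCurve.b₄, WeierstrassCurve.b₆,
        WeierstrassCurve.b₈]
      ring
    rw [this]
    exact (h2.pow 4).mul (hz.pow 2)
  · simp only [WeierstrassCurve.c₄, WeierstrassCurve.Δ, WeierstrassCurve.b₂, WeierstrassCurve.b₄,
      WeierstrassCurve.b₆, WeierstrassCurve.b₈]
    linear_combination (16 : B) * h

/-- Deuring model: if `w = a^3 - 27` and `(w+27)(w+3)^3 = j w`, with `w` a unit. -/
theorem deuring (a j : B) (hw : IsUnit (a ^ 3 - 27))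
    (h : a ^ 3 * (a ^ 3 - 24) ^ 3 = j * (a ^ 3 - 27)) :
    ∃ E : WeierstrassCurve B, IsUnit E.Δ ∧ E.c₄ ^ 3 = j * E.Δ := by
  refine ⟨⟨a, 0, 1, 0, 0⟩, ?_, ?_⟩
  · have : (⟨a, 0, 1, 0, 0⟩ : WeierstrassCurve B).Δ = a ^ 3 - 27 := by
      simp only [WeierstrassCurve.Δ, WeierstrassCurve.b₂, WeierstrassCurve.b₄, WeierstrassCurve.b₆,
        WeierstrassCurve.b₈]
      ring
    rw [this]
    exact hw
  · simp only [WeierstrassCurve.c₄, WeierstrassCurve.Δ, WeierstrassCurve.b₂, WeierstrassCurve.b₄,
      WeierstrassCurve.b₆, WeierstrassCurve.b₈]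
    linear_combination h

/-- A monic polynomial equation can be solved in the integral closure in an algebraically closed field. -/
theorem exists_root_integralClosure {R Ω : Type u} [CommRing R] [Field Ω] [IsAlgClosed Ω] [Algebra R Ω]
    (p : (integralClosure R Ω)[X]) (hp : p.Monic) (hd : p.natDegree ≠ 0) :
    ∃ x : integralClosure R Ω, p.eval x = 0 := by
  obtain ⟨y, hy⟩ := IsAlgClosed.exists_root (p.map (algebraMap (integralClosure R Ω) Ω)) (by
    rw [degree_map_eq_of_injective (fun a b hab => Subtype.ext hab)]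
    exact fun h => hd (natDegree_eq_of_degree_eq_some h))
  have hy' : eval₂ (algebraMap (integralClosure R Ω) Ω) y p = 0 := by
    rw [IsRoot, eval_map] at hy
    exact hy
  haveI : Algebra.IsIntegral R (integralClosure R Ω) := ⟨fun b => integralClosure.isIntegral b⟩
  have hint : IsIntegral R y := isIntegral_trans (A := integralClosure R Ω) y ⟨p, hp, hy'⟩
  refine ⟨⟨y, hint⟩, Subtype.ext ?_⟩
  show algebraMap (integralClosure R Ω) Ω (p.eval ⟨y, hint⟩) = 0
  rw [← eval₂_at_apply]
  exact hy'

/-- A model with unit discriminant of prescribed integral j-invariant, over the integral closure. -/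
theorem exists_model {R Ω : Type u} [CommRing R] [Field Ω] [IsAlgClosed Ω] [Algebra R Ω]
    (h : IsUnit (2 : R) ∨ IsUnit (3 : R)) (r : R) :
    ∃ E : WeierstrassCurve (integralClosure R Ω), IsUnit E.Δ ∧
      E.c₄ ^ 3 = algebraMap R _ r * E.Δ := by
  set j : integralClosure R Ω := algebraMap R (integralClosure R Ω) r with hj
  rcases h with h2 | h3
  · have h2' : IsUnit (2 : integralClosure R Ω) := by simpa only [map_ofNat] using h2.map (algebraMap R (integralClosure R Ω))
    obtain ⟨i, hi⟩ := (h2'.pow 8).exists_right_inv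
    obtain ⟨z, hz⟩ := exists_root_integralClosure (R := R) (Ω := Ω)
      (X ^ 3 + C (3 - i * j) * X ^ 2 + C 3 * X + C 1 : (integralClosure R Ω)[X]) (by monicity!) (by
        have : (X ^ 3 + C (3 - i * j) * X ^ 2 + C 3 * X + C 1 : (integralClosure R Ω)[X]).natDegree = 3 := by
          compute_degree!
        omega)
    simp only [eval_add, eval_mul, eval_pow, eval_X, eval_C] at hz
    obtain ⟨l, hl⟩ := exists_root_integralClosure (R := R) (Ω := Ω)
      (X ^ 2 - X - C z : (integralClosure R Ω)[X]) (by monicity!) (by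
        have : (X ^ 2 - X - C z : (integralClosure R Ω)[X]).natDegree = 2 := by compute_degree!
        omega)
    simp only [eval_sub, eval_pow, eval_X, eval_C] at hl
    have hlz : l * (l - 1) = z := by linear_combination hl
    refine legendre l j h2' ?_ ?_
    · rw [hlz]
      exact IsUnit.of_mul_eq_one (-(z ^ 2 + (3 - i * j) * z + 3)) (by linear_combination (-1 : integralClosure R Ω) * hz)
    · rw [hlz]
      linear_combination (256 : integralClosure R Ω) * hz + (j * z ^ 2) * hi
  · have h3' : IsUnit (3 : integralClosure R Ω) := by simpa only [map_ofNat] using h3.map (algebraMap R (integralClosure R Ω))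
    obtain ⟨i, hi⟩ := (h3'.pow 6).exists_right_inv
    obtain ⟨w, hw⟩ := exists_root_integralClosure (R := R) (Ω := Ω)
      (X ^ 4 + C 36 * X ^ 3 + C 270 * X ^ 2 + C (756 - j) * X + C 729 : (integralClosure R Ω)[X]) (by monicity!) (by
        have : (X ^ 4 + C 36 * X ^ 3 + C 270 * X ^ 2 + C (756 - j) * X + C 729 : (integralClosure R Ω)[X]).natDegree = 4 := by
          compute_degree!
        omega)
    simp only [eval_add, eval_mul, eval_pow, eval_X, eval_C] at hw
    obtain ⟨a, ha⟩ := exists_root_integralClosure (R := R) (Ω := Ω)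
      (X ^ 3 - C (w + 27) : (integralClosure R Ω)[X]) (by monicity!) (by
        have : (X ^ 3 - C (w + 27) : (integralClosure R Ω)[X]).natDegree = 3 := by compute_degree!
        omega)
    simp only [eval_sub, eval_pow, eval_X, eval_C] at ha
    have haw : a ^ 3 = w + 27 := by linear_combination ha
    refine deuring a j ?_ ?_
    · rw [haw, add_sub_cancel_right]
      exact IsUnit.of_mul_eq_one (-(i * (w ^ 3 + 36 * w ^ 2 + 270 * w + (756 - j)))) (by
        linear_combination (-i) * hw + hi)
    · rw [haw]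
      linear_combination hw

end Models

section Main

variable {R : Type u} [CommRing R] [IsDomain R] [IsDiscreteValuationRing R]
  {K : Type u} [Field K] [Algebra R K] [IsFractionRing R K]

theorem isUnit_two_or_three (R : Type u) [CommRing R] [IsLocalRing R] :
    IsUnit (2 : R) ∨ IsUnit (3 : R) := by
  by_contra h
  simp only [not_or] at h
  have h2 : (2 : R) ∈ IsLocalRing.maximalIdeal R := h.1
  have h3 : (3 : R) ∈ IsLocalRing.maximalIdeal R := h.2
  have := Ideal.sub_mem _ h3 h2
  norm_num at this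

/-- A curve with an integral model of unit discriminant has good minimal reduction. -/
theorem hasGoodReduction_minimal (W : WeierstrassCurve K) (C : WeierstrassCurve.VariableChange K)
    (E : WeierstrassCurve R) (hE : IsUnit E.Δ) (h : C • W = E.map (algebraMap R K)) :
    (W.minimal R).HasGoodReduction R := by
  refine { goodReduction := ?_ }
  obtain ⟨C₀, hC₀⟩ : ∃ C₀ : WeierstrassCurve.VariableChange K, W.minimal R = C₀ • W := ⟨_, rfl⟩
  set D := C * C₀⁻¹ with hD
  have e : D • W.minimal R = E.map (algebraMap R K) := by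
    rw [hC₀, hD, ← mul_smul, inv_mul_cancel_right, h]
  have hint : WeierstrassCurve.IsIntegral R (D • W.minimal R) := ⟨⟨E, e⟩⟩
  have hval : IsDedekindDomain.HeightOneSpectrum.valuation K (IsDiscreteValuationRing.maximalIdeal R)
      (D • W.minimal R).Δ = 1 := by
    rw [e, WeierstrassCurve.map_Δ]
    refine le_antisymm (IsDedekindDomain.HeightOneSpectrum.valuation_le_one _ _) (le_of_not_gt fun hlt => ?_)
    exact ((IsLocalRing.mem_maximalIdeal _).mp
      ((IsDedekindDomain.HeightOneSpectrum.valuation_lt_one_iff_mem _ _).mp hlt)) hE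
  have hmax := (inferInstance : WeierstrassCurve.IsMinimal R (W.minimal R)).val_Δ_maximal
  have hle : WeierstrassCurve.valuation_Δ_aux R ((1 : WeierstrassCurve.VariableChange K) • W.minimal R) ≤
      WeierstrassCurve.valuation_Δ_aux R (D • W.minimal R) := by
    refine Subtype.coe_le_coe.mp ?_
    rw [WeierstrassCurve.valuation_Δ_aux_eq_of_isIntegral R (D • W.minimal R), hval]
    exact (WeierstrassCurve.valuation_Δ_aux R _).2
  have hge : WeierstrassCurve.valuation_Δ_aux R (D • W.minimal R) ≤
      WeierstrassCurve.valuation_Δ_aux R ((1 : WeierstrassCurve.VariableChange K) • W.minimal R) :=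
    hmax.2 hint hle
  rw [one_smul] at hge
  have hge' := Subtype.coe_le_coe.mpr hge
  rw [WeierstrassCurve.valuation_Δ_aux_eq_of_isIntegral R (D • W.minimal R), hval,
    WeierstrassCurve.valuation_Δ_aux_eq_of_isIntegral R (W.minimal R)] at hge'
  refine le_antisymm ?_ hge'
  obtain ⟨r, hr⟩ := WeierstrassCurve.Δ_integral_of_isIntegral R (W.minimal R)
  rw [← hr]
  exact IsDedekindDomain.HeightOneSpectrum.valuation_le_one _ _

/-- Potentially good reduction gives an integral j-invariant. -/
theorem integral_j {L : Type u} [Field L] (W : WeierstrassCurve K) [W.IsElliptic] (f : K →+* L)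
    {RL : Type u} [CommRing RL] [IsDomain RL] [IsDiscreteValuationRing RL] [Algebra RL L]
    [IsFractionRing RL L] (φ : R →+* RL) [IsLocalHom φ]
    (hφ : ∀ r : R, f (algebraMap R K r) = algebraMap RL L (φ r))
    (hgood : ((W.map f).minimal RL).HasGoodReduction RL) :
    ∃ r : R, algebraMap R K r = W.j := by
  haveI := hgood
  obtain ⟨C₀, hC₀⟩ : ∃ C₀ : WeierstrassCurve.VariableChange L, (W.map f).minimal RL = C₀ • W.map f :=
    ⟨_, rfl⟩
  set W' := (W.map f).minimal RL with hW'
  set E := W'.integralModel RL with hEdef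
  have eE : E.map (algebraMap RL L) = W' := WeierstrassCurve.baseChange_integralModel_eq RL W'
  have hΔ : IsUnit E.Δ := by
    by_contra hnu
    have hm : E.Δ ∈ IsLocalRing.maximalIdeal RL := hnu
    have hlt := (IsDedekindDomain.HeightOneSpectrum.valuation_lt_one_iff_mem (K := L)
      (IsDiscreteValuationRing.maximalIdeal RL) E.Δ).mpr hm
    have eΔ : algebraMap RL L E.Δ = W'.Δ := by rw [← eE, WeierstrassCurve.map_Δ]
    refine lt_irrefl (1 : WithZero (Multiplicative ℤ)) ?_
    calc (1 : WithZero (Multiplicative ℤ))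
        = IsDedekindDomain.HeightOneSpectrum.valuation L (IsDiscreteValuationRing.maximalIdeal RL)
            (algebraMap RL L E.Δ) := by rw [eΔ, hgood.goodReduction]
      _ < 1 := hlt
  haveI : E.IsElliptic := ⟨hΔ⟩
  have hj : algebraMap RL L E.j = f W.j := by
    rw [← WeierstrassCurve.map_j, ← WeierstrassCurve.map_j]
    calc (E.map (algebraMap RL L)).j = (C₀ • W.map f).j := by
          congr 1
          exact eE.trans hC₀
      _ = _ := WeierstrassCurve.variableChange_j _ _
  rcases ValuationRing.isInteger_or_isInteger R W.j with ⟨a, ha⟩ | ⟨a, ha⟩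
  · exact ⟨a, ha⟩
  by_cases hj0 : W.j = 0
  · exact ⟨0, by rw [map_zero, hj0]⟩
  by_cases hau : IsUnit a
  · obtain ⟨b, hb⟩ := hau.exists_right_inv
    refine ⟨b, ?_⟩
    have h1 : algebraMap R K a * algebraMap R K b = 1 := by rw [← map_mul, hb, map_one]
    rw [ha] at h1
    field_simp at h1
    exact h1
  exfalso
  refine hau (isUnit_of_map_unit φ a ?_)
  refine IsUnit.of_mul_eq_one E.j (IsFractionRing.injective RL L ?_)
  rw [map_mul, ← hφ, hj, ha, ← map_mul, inv_mul_cancel₀ hj0, map_one, map_one]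

/-- An integral j-invariant gives potentially good reduction. -/
theorem potentiallyGood (W : WeierstrassCurve K) [W.IsElliptic] (r : R) (hr : algebraMap R K r = W.j) :
    ∃ (L : Type u) (_ : Field L) (_ : Algebra K L) (_ : FiniteDimensional K L) (RL : Type u)
      (_ : CommRing RL) (_ : IsDomain RL) (_ : IsDiscreteValuationRing RL) (_ : Algebra RL L)
      (_ : IsFractionRing RL L) (φ : R →+* RL), IsLocalHom φ ∧
      (∀ r : R, algebraMap K L (algebraMap R K r) = algebraMap RL L (φ r)) ∧
      ((W.map (algebraMap K L)).minimal RL).HasGoodReduction RL := by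
  let Ω := AlgebraicClosure K
  obtain ⟨E, hE, hEj⟩ := exists_model (R := R) (Ω := Ω) (isUnit_two_or_three R) r
  haveI : E.IsElliptic := ⟨hE⟩
  set EΩ := E.map (algebraMap (integralClosure R Ω) Ω) with hEΩ
  have hjE : E.j = algebraMap R _ r := by
    rw [WeierstrassCurve.j, hEj, ← WeierstrassCurve.coe_Δ', mul_left_comm, Units.inv_mul, mul_one]
  have hjΩ : (W.map (algebraMap K Ω)).j = EΩ.j := by
    show _ = (E.map (algebraMap (integralClosure R Ω) Ω)).j
    rw [WeierstrassCurve.map_j, WeierstrassCurve.map_j, hjE, ← hr,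
      ← IsScalarTower.algebraMap_apply R K Ω, ← IsScalarTower.algebraMap_apply R (integralClosure R Ω) Ω]
  obtain ⟨C, hC⟩ := WeierstrassCurve.exists_variableChange_of_j_eq _ _ hjΩ
  let S : Set Ω := {(E.a₁ : Ω), (E.a₂ : Ω), (E.a₃ : Ω), (E.a₄ : Ω), (E.a₆ : Ω), (C.u : Ω), C.r, C.s, C.t}
  let L := IntermediateField.adjoin K S
  haveI : FiniteDimensional K L := by
    haveI : Finite S := (Set.toFinite S).to_subtype
    exact IntermediateField.finiteDimensional_adjoin fun x _ => Algebra.IsIntegral.isIntegral x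
  have hmem : ∀ x ∈ S, x ∈ L := fun x hx => IntermediateField.subset_adjoin K S hx
  haveI : IsScalarTower R K L := inferInstance
  obtain ⟨V, hV⟩ := GrothLib.EtRam10.exists_dominates (A := R) (L := L)
  have hV' : EtRam.Dominates R ((algebraMap K L).comp (algebraMap R K)) V := by
    rwa [← IsScalarTower.algebraMap_eq]
  haveI := GrothLib.DVRExt.isDiscreteValuationRing_of_dominates R K L V hV'
  let φ : R →+* V := ((algebraMap K L).comp (algebraMap R K)).codRestrict V.toSubring hV'.1
  have hφ : ∀ x : R, algebraMap K L (algebraMap R K x) = algebraMap V L (φ x) := fun x => rfl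
  haveI hloc : IsLocalHom φ := ⟨fun x hx => by
    by_contra hnu
    have h1 : V.valuation ((φ x : V) : L) < 1 := hV'.2 x hnu
    exact absurd ((V.valuation_eq_one_iff (φ x)).mp hx) h1.ne⟩
  -- integral elements of `L` lie in `V`
  have hint : ∀ x : L, IsIntegral R (x : Ω) → x ∈ V := by
    intro x hx
    have hx' : IsIntegral R x := (isIntegral_algHom_iff
      ((L.val).restrictScalars R) (L.val).injective).mp hx
    obtain ⟨p, hp, hp0⟩ := hx'
    have hxV : IsIntegral V x := ⟨p.map φ, hp.map φ, by
      rw [eval₂_map]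
      have e : (algebraMap V L).comp φ = algebraMap R L := by
        rw [IsScalarTower.algebraMap_eq R K L]; rfl
      rw [e, hp0]⟩
    obtain ⟨v, hv⟩ := IsIntegrallyClosed.isIntegral_iff.mp hxV
    exact hv ▸ v.2
  have key : ∀ b : integralClosure R Ω, (b : Ω) ∈ L → ∃ v : V, ((v : L) : Ω) = (b : Ω) := fun b hb =>
    ⟨⟨⟨b, hb⟩, hint ⟨b, hb⟩ b.2⟩, rfl⟩
  obtain ⟨v₁, hv₁⟩ := key E.a₁ (hmem _ (by simp [S]))
  obtain ⟨v₂, hv₂⟩ := key E.a₂ (hmem _ (by simp [S]))
  obtain ⟨v₃, hv₃⟩ := key E.a₃ (hmem _ (by simp [S]))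
  obtain ⟨v₄, hv₄⟩ := key E.a₄ (hmem _ (by simp [S]))
  obtain ⟨v₆, hv₆⟩ := key E.a₆ (hmem _ (by simp [S]))
  let EV : WeierstrassCurve V := ⟨v₁, v₂, v₃, v₄, v₆⟩
  have eEV : (EV.map (algebraMap V L)).map (algebraMap L Ω) = EΩ := by
    rw [hEΩ]
    ext <;> assumption
  have hΔV : IsUnit EV.Δ := by
    obtain ⟨b, hb⟩ := hE.exists_right_inv
    have eΔ : ((EV.Δ : L) : Ω) = (E.Δ : Ω) := by
      have := congrArg WeierstrassCurve.Δ eEV
      rw [hEΩ, WeierstrassCurve.map_Δ, WeierstrassCurve.map_Δ, WeierstrassCurve.map_Δ] at this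
      exact this
    have hb' : (E.Δ : Ω) * (b : Ω) = 1 := congrArg (fun t : integralClosure R Ω => (t : Ω)) hb
    have hbL : (b : Ω) ∈ L := by
      rw [eq_inv_of_mul_eq_one_right hb', ← eΔ]
      exact inv_mem (EV.Δ : L).2
    obtain ⟨v, hv⟩ := key b hbL
    refine IsUnit.of_mul_eq_one v (Subtype.ext (Subtype.ext ?_))
    show ((EV.Δ : L) : Ω) * ((v : L) : Ω) = 1
    rw [eΔ, hv, hb']
  have hu0 : (⟨(C.u : Ω), hmem _ (by simp [S])⟩ : L) ≠ 0 := fun h =>
    C.u.ne_zero (congrArg Subtype.val h)
  let CL : WeierstrassCurve.VariableChange L :=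
    ⟨Units.mk0 _ hu0, ⟨C.r, hmem _ (by simp [S])⟩, ⟨C.s, hmem _ (by simp [S])⟩, ⟨C.t, hmem _ (by simp [S])⟩⟩
  have eCL : CL.map (algebraMap L Ω) = C := by
    ext <;> rfl
  refine ⟨L, inferInstance, inferInstance, inferInstance, V, inferInstance, inferInstance, inferInstance,
    inferInstance, inferInstance, φ, hloc, hφ, ?_⟩
  refine hasGoodReduction_minimal (R := V) _ CL EV hΔV ?_
  refine WeierstrassCurve.map_injective (f := algebraMap L Ω) (RingHom.injective _) ?_
  show (CL • W.map (algebraMap K L)).map (algebraMap L Ω) = _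
  rw [← WeierstrassCurve.map_variableChange, eCL, WeierstrassCurve.map_map,
    ← IsScalarTower.algebraMap_eq, hC]
  exact eEV.symm

end Main

end GrothLib.PotGood20
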